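import Cfsg.Prelude.Def_KGroupFacts
import Mathlib.GroupTheory.OrderOfElement
import Mathlib.GroupTheory.Abelianization.Defs
import Mathlib.Tactic.Group

/-!
Lifts along a central extension whose kernel has prime exponent.
-/

set_option autoImplicit false

namespace CfsgLib.JankoFourMult

open scoped commutatorElement

section

variable {G Γ : Type*} [Group G] [Group Γ] (σ : Γ →* G) (hc : σ.ker ≤ Subgroup.center Γ)
variable {p : ℕ} (hp : p.Prime) (hexp : ∀ z ∈ σ.ker, z ^ p = 1)

include hc in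
theorem ker_commute {z : Γ} (hz : σ z = 1) (y : Γ) : Commute z y :=
  ((Subgroup.mem_center_iff.1 (hc (MonoidHom.mem_ker.2 hz))) y).symm

include hp hexp in
theorem mul_self_eq_one_of_pow_two_pow {z : Γ} (hz : σ z = 1) {n : ℕ} (h : z ^ 2 ^ n = 1) : z * z = 1 := by
  have h1 := hexp z (MonoidHom.mem_ker.2 hz)
  rcases hp.eq_two_or_odd' with rfl | hodd
  · rwa [← pow_two]
  · have hcop : Nat.Coprime p (2 ^ n) :=
      Nat.Coprime.pow_right n (Nat.coprime_two_right.2 hodd)
    have h2 : z ^ Nat.gcd p (2 ^ n) = 1 := pow_gcd_eq_one.2 ⟨h1, h⟩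
    rw [hcop.gcd_eq_one, pow_one] at h2
    rw [h2, one_mul]

include hc hp hexp in
/-- The square of a lift of a conjugate of a liftable involution is trivial as soon as a power of two
kills it. -/
theorem sq_eq_one_of_conj {U A H : Γ} (e : σ U * σ H = σ H * σ A) (hA : A * A = 1)
    (hUU : σ (U * U) = 1) {n : ℕ} (h4 : (U * U) ^ 2 ^ n = 1) : U * U = 1 := by
  set k := H⁻¹ * U * H * A⁻¹ with hk
  have hσk : σ k = 1 := by
    simp only [hk, map_mul, map_inv, mul_assoc, ← mul_assoc (σ U), e]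
    group
  have hk1 : H⁻¹ * U * H = k * A := by rw [hk, inv_mul_cancel_right]
  have hk2 : H⁻¹ * (U * U) * H = k * k := by
    rw [show H⁻¹ * (U * U) * H = H⁻¹ * U * H * (H⁻¹ * U * H) by group, hk1, mul_assoc, ← mul_assoc A,
      ← (ker_commute σ hc hσk A).eq, mul_assoc k A A, hA, mul_one]
  have hUU' : H⁻¹ * (U * U) * H = U * U := by
    rw [mul_assoc, (ker_commute σ hc hUU H).eq, ← mul_assoc, inv_mul_cancel, one_mul]
  rw [hUU'] at hk2
  have h8 : k ^ 2 ^ (n + 1) = 1 := by rw [pow_succ', pow_mul, pow_two, ← hk2, h4]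
  rw [hk2, mul_self_eq_one_of_pow_two_pow σ hp hexp hσk h8]

include hc in
/-- A product of lifted commuting involutions has square of exponent two. -/
theorem sq_sq_of_invol {U V : Γ} (hU : U * U = 1) (hV : V * V = 1) (h : σ (U * V * (U * V)) = 1) :
    (U * V * (U * V)) ^ 2 ^ 1 = 1 := by
  set z := U * V * (U * V) with hz
  have e : U * V * U = z * V := by
    calc U * V * U = U * V * U * (V * V) := by rw [hV, mul_one]
      _ = z * V := by rw [hz]; simp only [mul_assoc]
  have sq1 : U * V * U * (U * V * U) = 1 := by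
    rw [show U * V * U * (U * V * U) = U * V * (U * U) * V * U by simp only [mul_assoc], hU, mul_one,
      mul_assoc U V V, hV, mul_one, hU]
  rw [e, mul_assoc, ← mul_assoc V, ← (ker_commute σ hc h V).eq, mul_assoc z V V, hV, mul_one] at sq1
  rw [pow_one, pow_two]
  exact sq1

theorem commute_of_sq {U V : Γ} (hU : U * U = 1) (hV : V * V = 1) (h : U * V * (U * V) = 1) :
    Commute U V := by
  have e1 : (U * V)⁻¹ = U * V := inv_eq_of_mul_eq_one_right h
  rw [mul_inv_rev, inv_eq_of_mul_eq_one_right hU, inv_eq_of_mul_eq_one_right hV] at e1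
  exact e1.symm

include hc in
/-- Commuting with a lift passes to conjugates by elements commuting below. -/
theorem commute_conj {T X P Q : Γ} (hTX : Commute T X) (hQ : Q * P = 1) (hTP : Commute (σ T) (σ P)) :
    Commute T (Q * X * P) := by
  have hQ' : Q = P⁻¹ := eq_inv_of_mul_eq_one_left hQ
  subst hQ'
  set z := P * T * P⁻¹ * T⁻¹ with hz
  have hσz : σ z = 1 := by
    simp only [hz, map_mul, map_inv, ← hTP.eq]
    group
  have e : P * T * P⁻¹ = z * T := by rw [hz, inv_mul_cancel_right]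
  have h : Commute (P * T * P⁻¹) X := by
    rw [e]
    exact (ker_commute σ hc hσz X).mul_left hTX
  have h2 := h.map (MulAut.conj P⁻¹).toMonoidHom
  simp only [MulEquiv.coe_toMonoidHom, MulAut.conj_apply, inv_inv] at h2
  rwa [show P⁻¹ * (P * T * P⁻¹) * P = T by group] at h2

include hc in
/-- The lifted relator of a tetrahedral pair has fourth power one. -/
theorem pow_four_of_tetrahedral {Y U : Γ} (hY : Y ^ 3 = 1) (hU : U * U = 1) (h : σ ((Y * U) ^ 3) = 1) :
    ((Y * U) ^ 3) ^ 2 ^ 2 = 1 := by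
  set c := (Y * U) ^ 3 with hcdef
  have cc := ker_commute σ hc h
  set P := Y * U * Y⁻¹ with hP
  set Q := Y ^ 2 * U * (Y ^ 2)⁻¹ with hQ
  have hPP : P * P = 1 := by
    rw [hP, show Y * U * Y⁻¹ * (Y * U * Y⁻¹) = Y * (U * U) * Y⁻¹ by group, hU, mul_one, mul_inv_cancel]
  have hQQ : Q * Q = 1 := by
    rw [hQ, show Y ^ 2 * U * (Y ^ 2)⁻¹ * (Y ^ 2 * U * (Y ^ 2)⁻¹) = Y ^ 2 * (U * U) * (Y ^ 2)⁻¹ by group,
      hU, mul_one, mul_inv_cancel]
  have e1 : P * Q * U = c := by
    have e0 : Y * U * Y⁻¹ * (Y ^ 2 * U * (Y ^ 2)⁻¹) * (Y ^ 3 * U) = (Y * U) ^ 3 := by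
      simp only [pow_succ, pow_zero, one_mul]; group
    rw [hY, one_mul] at e0
    exact e0
  have e2 : P * Q = c * U := by
    calc P * Q = P * Q * (U * U) := by rw [hU, mul_one]
      _ = c * U := by rw [← mul_assoc, e1]
  have e3 : P * Q * (P * Q) = c * c := by
    rw [e2, mul_assoc, ← mul_assoc U, ← (cc U).eq, mul_assoc c U U, hU, mul_one]
  have e4 : P * Q * P = c * c * Q := by
    rw [← e3, show P * Q * (P * Q) * Q = P * Q * P * (Q * Q) by simp only [mul_assoc], hQQ, mul_one]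
  have e5 : P * Q * P * (P * Q * P) = 1 := by
    rw [show P * Q * P * (P * Q * P) = P * Q * (P * P) * Q * P by simp only [mul_assoc], hPP, mul_one,
      mul_assoc P Q Q, hQQ, mul_one, hPP]
  rw [e4, mul_assoc, ← mul_assoc Q, ← ((cc Q).mul_left (cc Q)).eq, mul_assoc (c * c) Q Q, hQQ, mul_one] at e5
  rw [show (2 : ℕ) ^ 2 = 2 + 2 from rfl, pow_add, pow_two]
  exact e5

include hc in
/-- The lifted square of a product with two involutions has fourth power one. -/
theorem pow_four_of_product {A T S : Γ} (hA : A ^ 4 = 1) (hT : T * T = 1) (hS : S * S = 1)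
    (hAT : Commute A T) (h : σ (A * T * S * (A * T * S)) = 1) :
    (A * T * S * (A * T * S)) ^ 2 ^ 2 = 1 := by
  set W := A * T with hW
  set c := W * S * (W * S) with hcdef
  have hW4 : W ^ 4 = 1 := by
    rw [hW, hAT.mul_pow, hA, show (4 : ℕ) = 2 * 2 from rfl, pow_mul T, pow_two T, hT, one_pow, one_mul]
  have e : S * W * S = W⁻¹ * c := by
    rw [hcdef, show W⁻¹ * (W * S * (W * S)) = S * W * S by group]
  have hS' : S⁻¹ = S := inv_eq_of_mul_eq_one_right hS
  have h1 : (S * W * S) ^ 4 = 1 := by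
    have := conj_pow (i := 4) (a := S) (b := W)
    rw [hS'] at this
    rw [this, hW4, mul_one, hS]
  rw [e, ((ker_commute σ hc h) W⁻¹).symm.mul_pow, inv_pow, hW4, inv_one, one_mul] at h1
  exact h1

end

section

/-- Central factors do not affect a commutator. -/
theorem commutatorElement_mul_central {M : Type*} [Group M] {a b u w : M} (hu : ∀ y, Commute u y)
    (hw : ∀ y, Commute w y) : ⁅a * u, b * w⁆ = ⁅a, b⁆ := by
  simp only [commutatorElement_def, mul_inv_rev]
  calc a * u * (b * w) * (u⁻¹ * a⁻¹) * (w⁻¹ * b⁻¹)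
      = a * (u * (b * w)) * u⁻¹ * a⁻¹ * w⁻¹ * b⁻¹ := by simp only [mul_assoc]
    _ = a * b * (w * a⁻¹) * w⁻¹ * b⁻¹ := by
      rw [(hu (b * w)).eq]; simp only [mul_assoc, mul_inv_cancel_left]
    _ = a * b * a⁻¹ * b⁻¹ := by
      rw [(hw a⁻¹).eq]; simp only [mul_assoc, mul_inv_cancel_left]

universe u

variable {G Γ : Type u} [Group G] [Group Γ]

/-- A perfect subgroup with trivial multiplier lifts through a finite central extension. -/
theorem exists_lift_hom [Finite Γ] (σ : Γ →* G) (hs : Function.Surjective σ)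
    (hc : σ.ker ≤ Subgroup.center Γ) (M : Subgroup G) (hperf : commutator ↥M = ⊤)
    (hmul : ∀ (Δ : Type u) [Group Δ] [Finite Δ] (τ : Δ →* ↥M), Cfsg.IsStemExtension τ → τ.ker = ⊥) :
    ∃ l : ↥M →* Γ, ∀ m, σ (l m) = m := by
  let P := M.comap σ
  let φ : ↥P →* ↥M := (σ.comp P.subtype).codRestrict M fun q => q.2
  have hφs : Function.Surjective φ := fun m => by
    obtain ⟨g, hg⟩ := hs m
    exact ⟨⟨g, show σ g ∈ M by rw [hg]; exact m.2⟩, Subtype.ext hg⟩
  have hcen : ∀ z ∈ φ.ker, ∀ y : ↥P, y * z = z * y := fun z hz y => by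
    have hz1 : σ z.1 = 1 := congrArg Subtype.val (MonoidHom.mem_ker.1 hz)
    exact Subtype.ext (ker_commute σ hc hz1 y.1).symm.eq
  let C := commutator ↥P
  let τ : ↥C →* ↥M := φ.comp C.subtype
  have hCmap : C.map φ = ⊤ := by
    rw [← hperf, show C = commutator ↥P from rfl, commutator_def, commutator_def, Subgroup.map_commutator, Subgroup.map_top_of_surjective φ hφs]
  have hτs : Function.Surjective τ := fun m => by
    have hm : m ∈ C.map φ := hCmap ▸ Subgroup.mem_top m
    obtain ⟨q, hq, rfl⟩ := hm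
    exact ⟨⟨q, hq⟩, rfl⟩
  have hdec : ∀ q : ↥P, ∃ c ∈ C, ∃ z ∈ φ.ker, q = c * z := fun q => by
    obtain ⟨c, hc'⟩ := hτs (φ q)
    exact ⟨c.1, c.2, c.1⁻¹ * q, MonoidHom.mem_ker.2 (by
      rw [map_mul, map_inv, ← hc']
      exact inv_mul_cancel _), (mul_inv_cancel_left _ _).symm⟩
  have hCC : C ≤ ⁅C, C⁆ := by
    change commutator ↥P ≤ _
    rw [commutator_def, Subgroup.commutator_le]
    intro a _ b _
    obtain ⟨c, hc1, z, hz, rfl⟩ := hdec a
    obtain ⟨d, hd1, w, hw, rfl⟩ := hdec b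
    have cz := hcen z hz
    have cw := hcen w hw
    have e : ⁅c * z, d * w⁆ = ⁅c, d⁆ := by
      simp only [commutatorElement_def, mul_inv_rev]
      calc c * z * (d * w) * (z⁻¹ * c⁻¹) * (w⁻¹ * d⁻¹)
          = c * (z * (d * w)) * z⁻¹ * c⁻¹ * w⁻¹ * d⁻¹ := by simp only [mul_assoc]
        _ = c * d * w * c⁻¹ * w⁻¹ * d⁻¹ := by rw [← cz (d * w)]; simp only [mul_assoc, mul_inv_cancel_left]
        _ = c * d * (w * c⁻¹) * w⁻¹ * d⁻¹ := by simp only [mul_assoc]
        _ = c * d * c⁻¹ * d⁻¹ := by rw [← cw c⁻¹]; simp only [mul_assoc, mul_inv_cancel_left]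
    rw [e]
    exact Subgroup.commutator_mem_commutator hc1 hd1
  have hst : Cfsg.IsStemExtension τ := by
    refine ⟨hτs, fun z hz => Subgroup.mem_center_iff.2 fun y => Subtype.ext (hcen z.1 hz y.1), ?_⟩
    intro z _
    have h1 : z.1 ∈ (commutator ↥C).map C.subtype := by
      rw [commutator_def, Subgroup.map_commutator, ← MonoidHom.range_eq_map, Subgroup.range_subtype]
      exact hCC z.2
    obtain ⟨w, hw, hwz⟩ := h1
    rwa [← Subtype.ext hwz]
  have hker := hmul _ τ hst
  let e : ↥C ≃* ↥M := MulEquiv.ofBijective τ ⟨(MonoidHom.ker_eq_bot_iff τ).1 hker, hτs⟩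
  refine ⟨(P.subtype.comp C.subtype).comp e.symm.toMonoidHom, fun m => ?_⟩
  exact congrArg Subtype.val (e.apply_symm_apply m)

end

end CfsgLib.JankoFourMult
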