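import Cfsg.Agent.JankoFourRep.Bits

/-!
Products of matrices of size 112 over the field with two elements, with all rows of the running product
packed into one number, a slot of width 128 for each row. A factor costs one multiplication for each of
its rows.
-/

set_option autoImplicit false

namespace CfsgLib.JankoFourMult

open CfsgLib.JankoFourRep

/-- The slot width. -/
abbrev slot : ℕ := 128

/-- The rows packed into slots. -/
def pack : List ℕ → ℕ
  | [] => 0
  | r :: A => r + 2 ^ 128 * pack A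

/-- The lowest bit of every slot. -/
def mask : ℕ → ℕ
  | 0 => 0
  | n + 1 => 1 + 2 ^ 128 * mask n

/-- Packed product by a matrix given by rows; the first row belongs to the bit `k`. -/
def mulPFrom (O P : ℕ) : List ℕ → ℕ → ℕ
  | [], _ => 0
  | b :: L, k => ((P >>> k) &&& O) * b ^^^ mulPFrom O P L (k + 1)

/-- Packed product by a word. -/
def evalP (O : ℕ) (G : ℕ → List ℕ) : List ℕ → ℕ → ℕ
  | [], P => P
  | c :: w, P => CosetEnum.force (mulPFrom O P (G c) 0) (evalP O G w)

/-- The rows fit into slots. -/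
def fits (L : List ℕ) : Bool := L.length == 112 && L.all fun r => Nat.blt r (2 ^ 128)

/-- A word multiplies to the matrix with the given rows. -/
def isMatP (G : ℕ → List ℕ) (w Q : List ℕ) : Bool :=
  fits Q && w.all (fun c => fits (G c)) &&
    CosetEnum.force (mask 112) fun O =>
      CosetEnum.force (pack oneL) fun P => Nat.beq (evalP O G w P) (pack Q)

/-- A word multiplies to the identity. -/
def isOneP (G : ℕ → List ℕ) (w : List ℕ) : Bool := isMatP G w oneL

theorem pack_mul (b : ℕ) (f : ℕ → ℕ) : ∀ A : List ℕ, pack (A.map f) * b = pack (A.map fun r => f r * b)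
  | [] => by simp [pack]
  | r :: A => by
    simp only [List.map_cons, pack, add_mul, mul_assoc, pack_mul b f A]

theorem xor_split {a b : ℕ} (A B : ℕ) (ha : a < 2 ^ 128) (hb : b < 2 ^ 128) :
    (a + 2 ^ 128 * A) ^^^ (b + 2 ^ 128 * B) = (a ^^^ b) + 2 ^ 128 * (A ^^^ B) := by
  conv_lhs => rw [← Nat.mod_add_div ((a + 2 ^ 128 * A) ^^^ (b + 2 ^ 128 * B)) (2 ^ 128)]
  rw [Nat.xor_mod_two_pow, Nat.xor_div_two_pow, Nat.add_mul_mod_self_left, Nat.add_mul_mod_self_left,
    Nat.add_mul_div_left _ _ (Nat.two_pow_pos 128), Nat.add_mul_div_left _ _ (Nat.two_pow_pos 128),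
    Nat.mod_eq_of_lt ha, Nat.mod_eq_of_lt hb, Nat.div_eq_of_lt ha, Nat.div_eq_of_lt hb, zero_add, zero_add]

theorem pack_xor (f g : ℕ → ℕ) : ∀ A : List ℕ, (∀ r ∈ A, f r < 2 ^ 128) → (∀ r ∈ A, g r < 2 ^ 128) →
    pack (A.map f) ^^^ pack (A.map g) = pack (A.map fun r => f r ^^^ g r)
  | [], _, _ => by simp [pack]
  | r :: A, hf, hg => by
    simp only [List.map_cons, pack]
    rw [xor_split _ _ (hf r List.mem_cons_self) (hg r List.mem_cons_self),
      pack_xor f g A (fun x hx => hf x (List.mem_cons_of_mem _ hx)) fun x hx => hg x (List.mem_cons_of_mem _ hx)]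

theorem pack_sel {k : ℕ} (hk : k < 128) : ∀ A : List ℕ, (∀ r ∈ A, r < 2 ^ 128) →
    (pack A >>> k) &&& mask A.length = pack (A.map fun r => bif r.testBit k then 1 else 0)
  | [], _ => by simp [pack, mask]
  | r :: A, h => by
    have hr := h r List.mem_cons_self
    have ih := pack_sel hk A fun x hx => h x (List.mem_cons_of_mem _ hx)
    simp only [List.map_cons, pack, List.length_cons, mask]
    generalize hS : (r + 2 ^ 128 * pack A) >>> k = S
    rw [← Nat.mod_add_div (S &&& (1 + 2 ^ 128 * mask A.length)) (2 ^ 128), Nat.and_mod_two_pow,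
      Nat.and_div_two_pow, Nat.add_mul_mod_self_left, Nat.add_mul_div_left _ _ (Nat.two_pow_pos 128),
      show (1 : ℕ) % 2 ^ 128 = 1 by norm_num, show (1 : ℕ) / 2 ^ 128 = 0 by norm_num, zero_add,
      Nat.and_one_is_mod, Nat.mod_mod_of_dvd _ (dvd_pow_self 2 (by norm_num : (128 : ℕ) ≠ 0)), ← ih]
    congr 1
    · have hb : S % 2 = bif (r + 2 ^ 128 * pack A).testBit k then 1 else 0 := by
        rw [← hS, Nat.testBit, Nat.one_and_eq_mod_two]
        rcases Nat.mod_two_eq_zero_or_one ((r + 2 ^ 128 * pack A) >>> k) with e | e <;> rw [e] <;> rfl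
      rw [hb, add_comm r, Nat.testBit_two_pow_mul_add _ hr, if_pos hk]
    · congr 2
      rw [← hS, Nat.shiftRight_eq_div_pow, Nat.shiftRight_eq_div_pow, Nat.div_div_eq_div_mul,
        mul_comm (2 ^ k) (2 ^ 128), ← Nat.div_div_eq_div_mul, Nat.add_mul_div_left _ _ (Nat.two_pow_pos 128),
        Nat.div_eq_of_lt hr, zero_add]

theorem rowMulFrom_lt : ∀ (L : List ℕ) (r k : ℕ), (∀ b ∈ L, b < 2 ^ 128) → rowMulFrom L r k < 2 ^ 128
  | [], _, _, _ => by simp [rowMulFrom]
  | a :: L, r, k, h => by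
    have ih := rowMulFrom_lt L r (k + 1) fun b hb => h b (List.mem_cons_of_mem _ hb)
    rw [rowMulFrom]
    cases r.testBit k
    · exact ih
    · exact Nat.xor_lt_two_pow (h a List.mem_cons_self) ih

theorem mulPFrom_pack (A : List ℕ) (hA : ∀ r ∈ A, r < 2 ^ 128) :
    ∀ (L : List ℕ) (k : ℕ), k + L.length ≤ 128 → (∀ b ∈ L, b < 2 ^ 128) →
      mulPFrom (mask A.length) (pack A) L k = pack (A.map fun r => rowMulFrom L r k)
  | [], k, _, _ => by
    simp only [mulPFrom, rowMulFrom]
    clear hA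
    induction A with
    | nil => rfl
    | cons r A ih => rw [List.map_cons, pack, ← ih]; rfl
  | b :: L, k, hk, hb => by
    have hk' : k < 128 := by simp only [List.length_cons] at hk; omega
    have hb0 := hb b List.mem_cons_self
    have hbL : ∀ c ∈ L, c < 2 ^ 128 := fun c hc => hb c (List.mem_cons_of_mem _ hc)
    rw [mulPFrom, mulPFrom_pack A hA L (k + 1) (by simp only [List.length_cons] at hk; omega) hbL,
      pack_sel hk' A hA, pack_mul, pack_xor _ _ A ?_ fun r _ => rowMulFrom_lt L r (k + 1) hbL]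
    · refine congrArg pack (List.map_congr_left fun r _ => ?_)
      rw [rowMulFrom]
      cases r.testBit k <;> simp
    · intro r _
      cases r.testBit k
      · simp
      · rw [cond_true, one_mul]; exact hb0

theorem pack_inj : ∀ {A B : List ℕ}, A.length = B.length → (∀ r ∈ A, r < 2 ^ 128) →
    (∀ r ∈ B, r < 2 ^ 128) → pack A = pack B → A = B
  | [], [], _, _, _, _ => rfl
  | a :: A, b :: B, hl, hA, hB, h => by
    simp only [pack] at h
    have h1 := congrArg (· % 2 ^ 128) h
    have h2 := congrArg (· / 2 ^ 128) h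
    simp only [Nat.add_mul_mod_self_left, Nat.mod_eq_of_lt (hA a List.mem_cons_self),
      Nat.mod_eq_of_lt (hB b List.mem_cons_self)] at h1
    simp only [Nat.add_mul_div_left _ _ (Nat.two_pow_pos 128), Nat.div_eq_of_lt (hA a List.mem_cons_self),
      Nat.div_eq_of_lt (hB b List.mem_cons_self), zero_add] at h2
    rw [h1, pack_inj (by simpa using hl) (fun r hr => hA r (List.mem_cons_of_mem _ hr))
      (fun r hr => hB r (List.mem_cons_of_mem _ hr)) h2]
  | [], _ :: _, hl, _, _, _ => by simp at hl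
  | _ :: _, [], hl, _, _, _ => by simp at hl

theorem fits_spec {L : List ℕ} (h : fits L = true) : L.length = 112 ∧ ∀ r ∈ L, r < 2 ^ 128 := by
  rw [fits, Bool.and_eq_true, beq_iff_eq, List.all_eq_true] at h
  exact ⟨h.1, fun r hr => Nat.le_of_ble_eq_true (h.2 r hr)⟩

theorem evalP_spec (G : ℕ → List ℕ) : ∀ (w : List ℕ) (A : List ℕ), w.all (fun c => fits (G c)) = true →
    A.length = 112 → (∀ r ∈ A, r < 2 ^ 128) →
    ∃ B, evalP (mask 112) G w (pack A) = pack B ∧ B.length = 112 ∧ (∀ r ∈ B, r < 2 ^ 128) ∧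
      toMat B = toMat A * (w.map fun c => toMat (G c)).prod
  | [], A, _, hl, hb => ⟨A, rfl, hl, hb, by simp⟩
  | c :: w, A, hw, hl, hb => by
    rw [List.all_cons, Bool.and_eq_true] at hw
    obtain ⟨hcl, hcb⟩ := fits_spec hw.1
    have e : mulPFrom (mask 112) (pack A) (G c) 0 = pack (mulL A (G c)) := by
      rw [← hl, mulPFrom_pack A hb (G c) 0 (by omega) hcb]
      rfl
    obtain ⟨B, h1, h2, h3, h4⟩ := evalP_spec G w (mulL A (G c)) hw.2 (by simp [mulL, hl]) fun r hr => by
      obtain ⟨q, -, rfl⟩ := List.mem_map.1 hr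
      exact rowMulFrom_lt (G c) q 0 hcb
    refine ⟨B, by rw [evalP, CosetEnum.force_eq, e, h1], h2, h3, ?_⟩
    rw [h4, toMat_mulL hl hcl, List.map_cons, List.prod_cons, mul_assoc]

theorem prod_eq_of_isMatP {G : ℕ → List ℕ} {w Q : List ℕ} (h : isMatP G w Q = true) :
    (w.map fun c => toMat (G c)).prod = toMat Q := by
  simp only [isMatP, Bool.and_eq_true, CosetEnum.force_eq] at h
  obtain ⟨hQl, hQb⟩ := fits_spec h.1.1
  have ho : fits oneL = true := by decide +kernel
  obtain ⟨hol, hob⟩ := fits_spec ho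
  obtain ⟨B, h1, h2, h3, h4⟩ := evalP_spec G w oneL h.1.2 hol hob
  have hB : B = Q := pack_inj (h2.trans hQl.symm) h3 hQb (h1 ▸ Nat.eq_of_beq_eq_true h.2)
  rw [← hB, h4, toMat_oneL, one_mul]

theorem prod_eq_one_of_isOneP {G : ℕ → List ℕ} {w : List ℕ} (h : isOneP G w = true) :
    (w.map fun c => toMat (G c)).prod = 1 := by
  rw [prod_eq_of_isMatP h, toMat_oneL]

end CfsgLib.JankoFourMult
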