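import Cfsg.Agent.JankoFourMult.Letters
import Cfsg.Agent.JankoFourMult.Packed

/-! Kernel checks conjugating two further involutions into `⟨x, y⟩`. -/

set_option autoImplicit false

namespace CfsgLib.JankoFourMult

open CfsgLib.JankoFourRep

theorem m10_ok : isMatP mRows dWord10 mRows10 = true := by decide +kernel

theorem leftTX_ok : isMatP mRows (wTX ++ hTX) rowsPTX = true := by decide +kernel

theorem rightTX_ok : isMatP mRows (hTX ++ aTX) rowsPTX = true := by decide +kernel

theorem m11_ok : isMatP mRows dWord11 mRows11 = true := by decide +kernel

theorem leftU_ok : isMatP mRows (wU ++ hU) rowsPU = true := by decide +kernel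

theorem rightU_ok : isMatP mRows (hU ++ aU) rowsPU = true := by decide +kernel

end CfsgLib.JankoFourMult
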