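import Cfsg.Agent.JankoFourMult.Letters
import Cfsg.Agent.JankoFourMult.Packed

/-! Kernel checks of two products inside `⟨x, y⟩`. -/

set_option autoImplicit false

namespace CfsgLib.JankoFourMult

open CfsgLib.JankoFourRep

theorem prodV_ok : isMatP mRows prodV mRows4 = true := by decide +kernel

theorem prodA_ok : isMatP mRows prodA mRows6 = true := by decide +kernel

theorem m6four_ok : isOneP mRows [6, 6, 6, 6] = true := by decide +kernel

end CfsgLib.JankoFourMult
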