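import Cfsg.Agent.JankoFourMult.Letters
import Cfsg.Agent.JankoFourMult.Packed

/-! Kernel checks of the shorter word identities on the matrices of degree 112. -/

set_option autoImplicit false

namespace CfsgLib.JankoFourMult

open CfsgLib.JankoFourRep

theorem m4_ok : isMatP rowsOf mWord4 mRows4 = true := by decide +kernel

theorem m5_ok : isMatP mRows [4, 4, 4] mRows5 = true := by decide +kernel

theorem m6_ok : isMatP rowsOf mWord6 mRows6 = true := by decide +kernel

theorem m7_ok : isMatP rowsOf mWord7 mRows7 = true := by decide +kernel

theorem m45_ok : isOneP mRows [4, 5] = true := by decide +kernel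

theorem m78_ok : isOneP mRows [7, 8] = true := by decide +kernel

theorem sqTX_ok : isOneP rowsOf (aTX ++ aTX) = true := by decide +kernel

theorem sqU_ok : isOneP rowsOf (aU ++ aU) = true := by decide +kernel

end CfsgLib.JankoFourMult
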