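import Cfsg.Agent.JankoFourMult.Letters
import Cfsg.Agent.JankoFourMult.Packed

/-! Kernel check of the square of the conjugate of `t`. -/

set_option autoImplicit false

namespace CfsgLib.JankoFourMult

open CfsgLib.JankoFourRep

theorem sqT_ok : isOneP rowsOf (aT ++ aT) = true := by decide +kernel

end CfsgLib.JankoFourMult
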