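import Cfsg.Agent.JankoFourMult.Letters
import Cfsg.Agent.JankoFourMult.Packed

/-! Kernel checks conjugating `t` into `⟨x, y⟩` on the matrices of degree 112. -/

set_option autoImplicit false

namespace CfsgLib.JankoFourMult

open CfsgLib.JankoFourRep

theorem m9_ok : isMatP mRows dWord9 mRows9 = true := by decide +kernel

theorem leftT_ok : isMatP mRows (wT ++ hT) rowsPT = true := by decide +kernel

theorem rightT_ok : isMatP mRows (hT ++ aT) rowsPT = true := by decide +kernel

end CfsgLib.JankoFourMult
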