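import Cfsg.Agent.JankoFourMult.Data
import Cfsg.Agent.JankoFourRep.Letters

/-! The matrices of the extended letters. -/

set_option autoImplicit false

namespace CfsgLib.JankoFourMult

open CfsgLib.JankoFourRep

/-- The rows of the extended letters. -/
def mRows : ℕ → List ℕ
  | 4 => mRows4
  | 5 => mRows5
  | 6 => mRows6
  | 7 => mRows7
  | 8 => mRows8
  | 9 => mRows9
  | 10 => mRows10
  | 11 => mRows11
  | c => rowsOf c

theorem mRows_length (c : ℕ) : (mRows c).length = 112 := by
  match c with
  | 0 => exact rowsOf_length 0
  | 1 => exact rowsOf_length 1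
  | 2 => exact rowsOf_length 2
  | 3 => exact rowsOf_length 3
  | 4 | 5 | 6 | 7 | 8 | 9 | 10 | 11 => decide +kernel
  | n + 12 => exact rowsOf_length (n + 12)

/-- `v` as a product of conjugates of `x` by powers of `v`. -/
def prodV : List ℕ := ksV.flatMap fun k => List.replicate k 5 ++ [0] ++ List.replicate k 4

/-- The factor from `⟨x, y⟩` of the last relator as a product in `x` and `v`. -/
def prodA : List ℕ := ksA.map fun i => if i = 0 then 0 else 4

end CfsgLib.JankoFourMult
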