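import Cfsg.Agent.JankoFourMult.Values
import Cfsg.Agent.JankoFourMult.Abstract
import Cfsg.Agent.Schur.Basic
import Cfsg.Agent.Mathieu.SmallSimple
import Cfsg.Agent.S2038

/-!
The Schur multiplier of the presented fourth Janko group is trivial, given that the group is finite, that
the representation of degree 112 is faithful and that `x, y` generate a copy of `M₂₄`.
-/

set_option autoImplicit false
set_option linter.unusedSimpArgs false

namespace CfsgLib.JankoFourMult

open CfsgLib.JankoFour CfsgLib.JankoFourRep Cfsg.Spor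
open scoped commutatorElement

section

variable {G : Type*} [Group G]

theorem ev_singleton (f : ℕ → G) (c : ℕ) : ev f [c] = f c := by simp [ev]

theorem ev_replicate_letter (f : ℕ → G) (c k : ℕ) : ev f (List.replicate k c) = f c ^ k := by
  simp [ev]

theorem mg_four (X Y T : G) : mg X Y T 4 = vW X Y := by
  simp [mg, mg1, ev, gl, vW, mWord4, pow_succ, mul_assoc]

theorem mg_five (X Y T : G) : mg X Y T 5 = vW X Y ^ 3 := by
  rw [← mg_four X Y T]
  simp [mg, mg1]

theorem mg_six (X Y T : G) : mg X Y T 6 = aW X Y := by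
  simp [mg, mg1, ev, gl, aW, mWord6, pow_succ, mul_assoc]

theorem mg_seven (X Y T : G) : mg X Y T 7 = w2W X Y := by
  simp [mg, mg1, ev, gl, w2W, mWord7, pow_succ, mul_assoc]

theorem mg_eight (X Y T : G) : mg X Y T 8 = (w2W X Y)⁻¹ := by
  rw [← mg_seven X Y T]
  simp [mg, mg1]

theorem ev_mg_eq_gl (X Y T : G) {w : List ℕ} (hw : w.all (Nat.blt · 3) = true) :
    ev (mg X Y T) w = ev (gl X Y T) w := by
  refine congrArg List.prod (List.map_congr_left fun c hc => ?_)
  have h := List.all_eq_true.1 hw c hc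
  match c with
  | 0 => rfl
  | 1 => rfl
  | 2 => rfl
  | n + 3 => simp at h

theorem ev_prodV (X Y T : G) :
    ev (mg X Y T) prodV = (ksV.map fun k => (vW X Y ^ 3) ^ k * X * vW X Y ^ k).prod := by
  rw [prodV, ev_flatMap]
  refine congrArg List.prod (List.map_congr_left fun k _ => ?_)
  rw [ev_append, ev_append, ev_replicate_letter, ev_replicate_letter, ev_singleton, mg_four, mg_five]
  rfl

theorem ev_prodA (X Y T : G) :
    ev (mg X Y T) prodA = (ksA.map fun i => if i = 0 then X else vW X Y).prod := by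
  rw [prodA, ev, List.map_map]
  refine congrArg List.prod (List.map_congr_left fun i _ => ?_)
  simp only [Function.comp_apply]
  split
  · rfl
  · exact mg_four X Y T

theorem ev_wT (X Y T : G) : ev (mg X Y T) wT = T := by
  simp [ev, wT, mg, mg1, gl]

theorem ev_wTX (X Y T : G) : ev (mg X Y T) wTX = T * X := by
  simp [ev, wTX, mg, mg1, gl]

theorem ev_wU (X Y T : G) : ev (mg X Y T) wU = uW X Y T := by
  simp only [wU, ev_cons, ev_nil, mul_one, mg_six, mg_seven, mg_eight, uW,
    show mg X Y T 3 = T from rfl, mul_assoc]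

theorem commute_prod {a : G} : ∀ (L : List G), (∀ b ∈ L, Commute a b) → Commute a L.prod
  | [], _ => Commute.one_right a
  | b :: L, h => by
    rw [List.prod_cons]
    exact (h b List.mem_cons_self).mul_right (commute_prod L fun c hc => h c (List.mem_cons_of_mem _ hc))

end

theorem rel_v : Commute tJ (vW xJ yJ) := by
  have h := rel_eq_one (w := J4.t⁻¹ * (J4.y * J4.x * J4.y * ((J4.x * (J4.y⁻¹)) ^ 2) * ((J4.x * J4.y) ^ 3))⁻¹ *
      J4.t * (J4.y * J4.x * J4.y * ((J4.x * (J4.y⁻¹)) ^ 2) * ((J4.x * J4.y) ^ 3))) (by simp [J4.extra])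
  simp only [map_mul, map_inv, map_pow] at h
  change tJ⁻¹ * (vW xJ yJ)⁻¹ * tJ * vW xJ yJ = 1 at h
  rw [mul_assoc, ← mul_inv_rev, inv_mul_eq_one] at h
  exact h.symm

theorem rel_x : tJ * xJ * (tJ * xJ) = 1 := by
  have h := rel_eq_one (w := J4.t⁻¹ * J4.x⁻¹ * J4.t * J4.x) (by simp [J4.extra])
  simp only [map_mul, map_inv] at h
  change tJ⁻¹ * xJ⁻¹ * tJ * xJ = 1 at h
  rw [inv_eq_of_mul_eq_one_right (show tJ * tJ = 1 by rw [← pow_two]; exact tJ_sq),
    inv_eq_of_mul_eq_one_right (show xJ * xJ = 1 by rw [← pow_two]; exact xJ_sq)] at h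
  rw [← mul_assoc]
  exact h

theorem rel_w1 : (yJ * ((w1W xJ yJ)⁻¹ * tJ * w1W xJ yJ)) ^ 3 = 1 := by
  have h := rel_eq_one (w := (J4.y * ((J4.y * J4.x * (J4.y⁻¹) * J4.x * J4.y * J4.x * (J4.y⁻¹) * J4.x)⁻¹ *
      J4.t * (J4.y * J4.x * (J4.y⁻¹) * J4.x * J4.y * J4.x * (J4.y⁻¹) * J4.x))) ^ 3) (by simp [J4.extra])
  simp only [map_mul, map_inv, map_pow] at h
  exact h

theorem rel_u : uW xJ yJ tJ * uW xJ yJ tJ = 1 := by
  have h := rel_eq_one (w := (((J4.y * J4.x * J4.y * J4.x * J4.y * J4.x * J4.y) ^ 3) * J4.t *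
      ((((J4.x * J4.y) ^ 3) * J4.y * ((J4.x * J4.y) ^ 6) * J4.y)⁻¹ * J4.t *
        (((J4.x * J4.y) ^ 3) * J4.y * ((J4.x * J4.y) ^ 6) * J4.y))) ^ 2) (by simp [J4.extra])
  simp only [map_mul, map_inv, map_pow] at h
  rw [← pow_two]
  exact h

theorem aT_lt : aT.all (Nat.blt · 3) = true := by decide

theorem aTX_lt : aTX.all (Nat.blt · 3) = true := by decide

theorem aU_lt : aU.all (Nat.blt · 3) = true := by decide

/-- The generator `x` in the subgroup. -/
def xM : ↥mSub := ⟨xJ, Subgroup.subset_closure (Set.mem_insert _ _)⟩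

/-- The generator `y` in the subgroup. -/
def yM : ↥mSub := ⟨yJ, Subgroup.subset_closure (Set.mem_insert_of_mem _ rfl)⟩

/-- Two elements of the subgroup given by words agree as soon as their images do. -/
theorem mSub_ext {f g : ↥mSub} (h : (f : J4) = g) : f = g := Subtype.ext h

theorem coe_gl (T : ↥mSub) (w : List ℕ) :
    ((ev (gl xM yM T) w : ↥mSub) : J4) = ev (gl xJ yJ T.1) w :=
  map_ev mSub.subtype xM yM T w

theorem coe_mg (T : ↥mSub) (w : List ℕ) :
    ((ev (mg xM yM T) w : ↥mSub) : J4) = ev (mg xJ yJ T.1) w :=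
  map_ev' mSub.subtype (map_mg mSub.subtype xM yM T) w

variable {Γ : Type} [Group Γ] (σ : Γ →* J4) {p : ℕ}

/-- The kernel of a finite stem extension with kernel of prime exponent is trivial. -/
theorem ker_eq_bot (F : Facts) (hp : p.Prime) (hexp : ∀ z ∈ σ.ker, z ^ p = 1) (hσ : Cfsg.IsStemExtension σ)
    (l : ↥mSub →* Γ) (hl : ∀ m, σ (l m) = m) : σ.ker = ⊥ := by
  obtain ⟨hs, hc, hd⟩ := hσ
  set X := l xM with hXdef
  set Y := l yM with hYdef
  have hX : σ X = xJ := hl xM
  have hY : σ Y = yJ := hl yM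
  have hXX : X * X = 1 := by
    rw [hXdef, ← map_mul, show xM * xM = 1 from mSub_ext (by
      change xJ * xJ = 1
      rw [← pow_two]; exact xJ_sq), map_one]
  have hY3 : Y ^ 3 = 1 := by
    rw [hYdef, ← map_pow, show yM ^ 3 = 1 from mSub_ext yJ_cube, map_one]
  have lift_word : ∀ a : List ℕ, a.all (Nat.blt · 3) = true →
      ev (gl xJ yJ tJ) a * ev (gl xJ yJ tJ) a = 1 →
      σ (ev (gl X Y 1) a) = ev mJ a ∧ ev (gl X Y 1) a * ev (gl X Y 1) a = 1 := fun a ha h2 => by
    refine ⟨?_, ?_⟩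
    · rw [map_ev σ, hX, hY, map_one, ev_congr_lt xJ yJ 1 tJ ha, ev_mg_eq_gl xJ yJ tJ ha]
    · have e : ev (gl X Y 1) a = l (ev (gl xM yM 1) a) := by rw [map_ev l, map_one]
      rw [e, ← map_mul, show ev (gl xM yM 1) a * ev (gl xM yM 1) a = 1 from mSub_ext (by
        rw [Subgroup.coe_mul, coe_gl, Subgroup.coe_one, ev_congr_lt xJ yJ 1 tJ ha]
        exact h2), map_one]
  -- the lift of `t`
  obtain ⟨T0, hT0⟩ := hs tJ
  obtain ⟨hA0, hA0'⟩ := lift_word aT aT_lt F.sqT
  set H0 := ev (mg X Y T0) hT with hH0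
  set A0 := ev (gl X Y 1) aT with hA0def
  have hσH0 : σ H0 = ev mJ hT := by
    rw [hH0, map_ev' σ (map_mg σ X Y T0), hX, hY, hT0]
  set T1 := H0 * A0 * H0⁻¹ with hT1def
  have hT1T1 : T1 * T1 = 1 := by
    rw [hT1def, show H0 * A0 * H0⁻¹ * (H0 * A0 * H0⁻¹) = H0 * (A0 * A0) * H0⁻¹ by group, hA0', mul_one,
      mul_inv_cancel]
  have hT1 : σ T1 = tJ := by
    rw [hT1def, map_mul, map_mul, map_inv, hσH0, hA0, mul_inv_eq_iff_eq_mul, ← F.conjT]
    exact congrArg (· * _) (ev_wT xJ yJ tJ)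
  -- rescaling
  set W := w1W X Y with hWdef
  have hW : σ W = w1W xJ yJ := by rw [hWdef, map_w1W, hX, hY]
  set c := (Y * (W⁻¹ * T1 * W)) ^ 3 with hcdef
  have hσc : σ c = 1 := by
    rw [hcdef, map_pow, map_mul, map_mul, map_mul, map_inv, hY, hW, hT1]; exact rel_w1
  have cc := ker_commute σ hc hσc
  have hU1 : W⁻¹ * T1 * W * (W⁻¹ * T1 * W) = 1 := by
    rw [show W⁻¹ * T1 * W * (W⁻¹ * T1 * W) = W⁻¹ * (T1 * T1) * W by group, hT1T1, mul_one, inv_mul_cancel]
  have hcc : c * c = 1 := mul_self_eq_one_of_pow_two_pow σ hp hexp hσc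
    (pow_four_of_tetrahedral σ hc hY3 hU1 hσc)
  set T := T1 * c with hTdef
  have hTT : T * T = 1 := by
    rw [hTdef, mul_assoc, ← mul_assoc c, (cc T1).eq, mul_assoc T1 c c, hcc, mul_one, hT1T1]
  have hT : σ T = tJ := by rw [hTdef, map_mul, hT1, hσc, mul_one]
  have hrel10 : (Y * (W⁻¹ * T * W)) ^ 3 = 1 := by
    have e : Y * (W⁻¹ * T * W) = Y * (W⁻¹ * T1 * W) * c := by
      rw [hTdef]; simp only [mul_assoc, (cc W).eq]
    rw [e, (cc _).symm.mul_pow, ← hcdef, show c ^ 3 = c * (c * c) by simp [pow_succ, mul_assoc], hcc,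
      mul_one, hcc]
  have hHev : ∀ w, σ (ev (mg X Y T) w) = ev mJ w := fun w => by
    rw [map_ev' σ (map_mg σ X Y T), hX, hY, hT]
  -- `t` commutes with `x`
  have hTX : Commute T X := by
    refine commute_of_sq hTT hXX ?_
    have h0 : σ (T * X * (T * X)) = 1 := by rw [map_mul, map_mul, hT, hX]; exact rel_x
    obtain ⟨hA, hA'⟩ := lift_word aTX aTX_lt F.sqTX
    refine sq_eq_one_of_conj σ hc hp hexp (H := ev (mg X Y T) hTX) ?_ hA' h0
      (sq_sq_of_invol σ hc hTT hXX h0)
    rw [hHev, hA, map_mul, hT, hX, ← F.conjTX]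
    exact congrArg (· * _) (ev_wTX xJ yJ tJ).symm
  -- `t` commutes with `v`
  set V := vW X Y with hVdef
  have hVl : V = l (vW xM yM) := by rw [map_vW]
  have hV : σ V = vW xJ yJ := by rw [hVdef, map_vW, hX, hY]
  have hvJ : ((vW xM yM : ↥mSub) : J4) = vW xJ yJ := map_vW mSub.subtype xM yM
  have hV4 : V ^ 4 = 1 := by
    rw [hVl, ← map_pow, show vW xM yM ^ 4 = 1 from mSub_ext (by
      rw [SubgroupClass.coe_pow, hvJ, Subgroup.coe_one, pow_succ', ← F.v4, mJ, mg_four, mg_five]), map_one]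
  have hVprod : V = (ksV.map fun k => (V ^ 3) ^ k * X * V ^ k).prod := by
    have e : ev (mg xM yM 1) prodV = vW xM yM := mSub_ext (by
      rw [coe_mg, hvJ, Subgroup.coe_one, ev_prodV, ← ev_prodV xJ yJ tJ, ← mg_four xJ yJ tJ]
      exact F.prodV)
    have h2 := congrArg l e
    rw [map_ev' l (map_mg l xM yM 1), ← hVl, ev_prodV] at h2
    exact h2.symm
  have hTV : Commute T V := by
    rw [hVprod]
    refine commute_prod _ fun b hb => ?_
    obtain ⟨k, -, rfl⟩ := List.mem_map.1 hb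
    refine commute_conj σ hc hTX ?_ ?_
    · rw [← pow_mul, ← pow_add, show 3 * k + k = 4 * k by ring, pow_mul, hV4, one_pow]
    · rw [map_pow, hT, hV]; exact rel_v.pow_right k
  -- the factor of the last relator
  set A := aW X Y with hAdef
  have hAl : A = l (aW xM yM) := by rw [map_aW]
  have haJ : ((aW xM yM : ↥mSub) : J4) = aW xJ yJ := map_aW mSub.subtype xM yM
  have hA4 : A ^ 4 = 1 := by
    rw [hAl, ← map_pow, show aW xM yM ^ 4 = 1 from mSub_ext (by
      rw [SubgroupClass.coe_pow, haJ, Subgroup.coe_one, ← F.a4]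
      simp only [ev_cons, ev_nil, mJ, mg_six, pow_succ, pow_zero, one_mul, mul_one, mul_assoc]), map_one]
  have hAprod : A = (ksA.map fun i => if i = 0 then X else V).prod := by
    have e : ev (mg xM yM 1) prodA = aW xM yM := mSub_ext (by
      rw [coe_mg, haJ, Subgroup.coe_one, ev_prodA, ← ev_prodA xJ yJ tJ, ← mg_six xJ yJ tJ]
      exact F.prodA)
    have h2 := congrArg l e
    rw [map_ev' l (map_mg l xM yM 1), ← hAl, ev_prodA] at h2
    exact h2.symm
  have hAT : Commute A T := by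
    rw [hAprod]
    refine (commute_prod _ fun b hb => ?_).symm
    obtain ⟨i, -, rfl⟩ := List.mem_map.1 hb
    split
    · exact hTX
    · exact hTV
  have hUU : uW X Y T * uW X Y T = 1 := by
    have h0 : σ (uW X Y T * uW X Y T) = 1 := by rw [map_mul, map_uW, hX, hY, hT]; exact rel_u
    obtain ⟨hA', hA''⟩ := lift_word aU aU_lt F.sqU
    refine sq_eq_one_of_conj σ hc hp hexp (H := ev (mg X Y T) hU) ?_ hA'' h0
      (pow_four_of_product σ hc hA4 hTT ?_ hAT h0)
    · rw [hHev, hA', map_uW, hX, hY, hT, ← F.conjU]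
      exact congrArg (· * _) (ev_wU xJ yJ tJ).symm
    · rw [show (w2W X Y)⁻¹ * T * w2W X Y * ((w2W X Y)⁻¹ * T * w2W X Y) = (w2W X Y)⁻¹ * (T * T) * w2W X Y by
        group, hTT, mul_one, inv_mul_cancel]
  -- the section
  let f : J4.Gen → Γ
    | .x => X
    | .y => Y
    | .t => T
  have hM : ∀ a : ↥mSub, (a : J4) = 1 → l a = 1 := fun a ha => by rw [mSub_ext (g := 1) ha, map_one]
  have hrels : ∀ r ∈ relsJ, FreeGroup.lift f r = 1 := by
    rintro r (hr | hr)
    · obtain ⟨e, hx, -⟩ := hr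
      exact (List.not_mem_nil (hx : e ∈ ([] : List J4.Gen))).elim
    · change r ∈ J4.extra at hr
      simp only [J4.extra, List.mem_cons, List.not_mem_nil, or_false] at hr
      rcases hr with rfl | rfl | rfl | rfl | rfl | rfl | rfl | rfl | rfl | rfl | rfl | rfl
      all_goals simp only [map_mul, map_pow, map_inv, FreeGroup.lift_apply_of, f]
      · rw [pow_two]; exact hXX
      · exact hY3
      · rw [hXdef, hYdef, ← map_mul, ← map_pow]
        refine hM _ ?_
        have h := rel_eq_one (w := (J4.x * J4.y) ^ 23) (by simp [J4.extra])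
        simp only [map_mul, map_pow, map_inv] at h
        simp only [SubgroupClass.coe_pow, Subgroup.coe_mul, Subgroup.coe_inv]
        exact h
      · rw [hXdef, hYdef]
        simp only [← map_inv, ← map_mul, ← map_pow]
        refine hM _ ?_
        have h := rel_eq_one (w := (J4.x⁻¹ * J4.y⁻¹ * J4.x * J4.y) ^ 12) (by simp [J4.extra])
        simp only [map_mul, map_pow, map_inv] at h
        simp only [SubgroupClass.coe_pow, Subgroup.coe_mul, Subgroup.coe_inv]
        exact h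
      · rw [hXdef, hYdef]
        simp only [← map_inv, ← map_mul, ← map_pow]
        refine hM _ ?_
        have h := rel_eq_one (w := (J4.x⁻¹ * (J4.y * J4.x * J4.y)⁻¹ * J4.x * (J4.y * J4.x * J4.y)) ^ 5) (by simp [J4.extra])
        simp only [map_mul, map_pow, map_inv] at h
        simp only [SubgroupClass.coe_pow, Subgroup.coe_mul, Subgroup.coe_inv]
        exact h
      · rw [hXdef, hYdef]
        simp only [← map_inv, ← map_mul, ← map_pow]
        refine hM _ ?_
        have h := rel_eq_one (w := (J4.x * J4.y * ((J4.x * J4.y * J4.x * (J4.y⁻¹)) ^ 3)) ^ 4) (by simp [J4.extra])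
        simp only [map_mul, map_pow, map_inv] at h
        simp only [SubgroupClass.coe_pow, Subgroup.coe_mul, Subgroup.coe_inv]
        exact h
      · rw [hXdef, hYdef]
        simp only [← map_inv, ← map_mul, ← map_pow]
        refine hM _ ?_
        have h := rel_eq_one (w := ((J4.x * J4.y * J4.x * J4.y * J4.x * (J4.y⁻¹)) ^ 3) * ((J4.x * J4.y * J4.x * (J4.y⁻¹) * J4.x * (J4.y⁻¹)) ^ 3)) (by simp [J4.extra])
        simp only [map_mul, map_pow, map_inv] at h
        simp only [SubgroupClass.coe_pow, Subgroup.coe_mul, Subgroup.coe_inv]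
        exact h
      · rw [pow_two]; exact hTT
      · change T⁻¹ * V⁻¹ * T * V = 1
        rw [mul_assoc, ← mul_inv_rev, inv_mul_eq_one]
        exact hTV.eq.symm
      · rw [mul_assoc, ← mul_inv_rev, inv_mul_eq_one]
        exact hTX.eq.symm
      · exact hrel10
      · rw [pow_two]; exact hUU
  let π : J4 →* Γ := PresentedGroup.toGroup (f := f) hrels
  have hsec : σ.comp π = MonoidHom.id J4 := PresentedGroup.ext fun g => by
    rw [MonoidHom.comp_apply, PresentedGroup.toGroup.of]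
    cases g
    · exact hX
    · exact hY
    · exact hT
  have hsec' : ∀ q, σ (π q) = q := fun q => DFunLike.congr_fun hsec q
  have hcomm : commutator Γ ≤ π.range := by
    rw [commutator_def, Subgroup.commutator_le]
    intro a _ b _
    refine ⟨⁅σ a, σ b⁆, ?_⟩
    rw [map_commutatorElement]
    have ha : σ ((π (σ a))⁻¹ * a) = 1 := by rw [map_mul, map_inv, hsec', inv_mul_cancel]
    have hb : σ ((π (σ b))⁻¹ * b) = 1 := by rw [map_mul, map_inv, hsec', inv_mul_cancel]
    conv_rhs => rw [← mul_inv_cancel_left (π (σ a)) a, ← mul_inv_cancel_left (π (σ b)) b]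
    exact (commutatorElement_mul_central (ker_commute σ hc ha) (ker_commute σ hc hb)).symm
  rw [eq_bot_iff]
  intro z hz
  obtain ⟨q, rfl⟩ := hcomm (hd hz)
  have hq : q = 1 := by rw [← hsec' q]; exact MonoidHom.mem_ker.1 hz
  rw [hq, map_one]
  exact Subgroup.one_mem _

/-- The multiplier of a copy of `M₂₄` is trivial. -/
theorem hmul_of_mulEquiv (e : ↥mSub ≃* ↥Cfsg.M24) (Δ : Type) [Group Δ] [Finite Δ] (τ : Δ →* ↥mSub)
    (hτ : Cfsg.IsStemExtension τ) : τ.ker = ⊥ := by
  obtain ⟨hs, hc, hd⟩ := hτ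
  have hk : (e.toMonoidHom.comp τ).ker = τ.ker := by
    ext z; simp
  obtain ⟨π, hπ⟩ := Cfsg.Agent.S2038.result.2 Δ (e.toMonoidHom.comp τ)
    ⟨e.surjective.comp hs, hk.symm ▸ hc, hk.symm ▸ hd⟩
  rw [eq_bot_iff]
  intro z hz
  obtain ⟨a, ha⟩ := hπ ⟨z, hk.symm ▸ hz⟩
  have : a = 1 := Subsingleton.elim (h := inferInstanceAs (Subsingleton (Fin 1))) _ _
  rw [this, map_one] at ha
  exact (Subgroup.mem_bot).2 (congrArg Subtype.val ha).symm

/-- The subgroup is perfect. -/
theorem commutator_mSub (e : ↥mSub ≃* ↥Cfsg.M24) : commutator ↥mSub = ⊤ := by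
  have := CfsgLib.Mathieu.simple_M24
  have : IsSimpleGroup ↥mSub := e.isSimpleGroup
  refine ((commutator ↥mSub).normal_of_characteristic.eq_bot_or_eq_top).resolve_left fun h => ?_
  have hc : xJ * yJ = yJ * xJ := by
    have h2 : ⁅xM, yM⁆ ∈ commutator ↥mSub := by
      rw [commutator_def]
      exact Subgroup.commutator_mem_commutator (Subgroup.mem_top _) (Subgroup.mem_top _)
    rw [h, Subgroup.mem_bot] at h2
    exact congrArg Subtype.val (commutatorElement_eq_one_iff_mul_comm.1 h2)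
  have hxy : xJ * yJ = 1 := by
    have h6 : (xJ * yJ) ^ 6 = 1 := by
      rw [(show Commute xJ yJ from hc).mul_pow, show (6 : ℕ) = 2 * 3 from rfl, pow_mul, xJ_sq, one_pow,
        mul_comm 2 3, pow_mul, yJ_cube, one_pow, mul_one]
    have h23 : (xJ * yJ) ^ 23 = 1 := by
      have h := rel_eq_one (w := (J4.x * J4.y) ^ 23) (by simp [J4.extra])
      simp only [map_mul, map_pow] at h
      exact h
    simpa using pow_gcd_eq_one.2 ⟨h6, h23⟩
  have hx1 : xJ = 1 := by
    have e1 : xJ = yJ⁻¹ := eq_inv_of_mul_eq_one_left hxy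
    have e3 : xJ ^ 3 = 1 := by rw [e1, inv_pow, yJ_cube, inv_one]
    rwa [pow_succ, xJ_sq, one_mul] at e3
  have hm : toMat rowsX = 1 := by
    rw [← mat_one, ← hx1]
    exact (mat_gl 0).symm
  have : toMat rowsX 1 1 = (1 : Mat) 1 1 := by rw [hm]
  revert this
  decide +kernel

/-- The multiplier is trivial, given finiteness, faithfulness and the subgroup isomorphism. -/
theorem hasCyclicSchurMultiplier_one [Finite Cfsg.Spor.J4] (hinj : Function.Injective rep)
    (hM : Nonempty (↥mSub ≃* ↥Cfsg.M24)) : Cfsg.HasCyclicSchurMultiplier Cfsg.Spor.J4 1 := by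
  obtain ⟨e⟩ := hM
  refine CfsgLib.Schur.hasCyclicSchurMultiplier_one _ fun p hp _ Γ _ _ σ hσ hexp => ?_
  obtain ⟨l, hl⟩ := exists_lift_hom σ hσ.1 hσ.2.1 mSub (commutator_mSub e) (hmul_of_mulEquiv e)
  exact ker_eq_bot σ (facts hinj) hp hexp hσ l hl

end CfsgLib.JankoFourMult
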