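import Cfsg.Agent.JankoFourMult.CheckShort
import Cfsg.Agent.JankoFourMult.CheckT
import Cfsg.Agent.JankoFourMult.CheckSq
import Cfsg.Agent.JankoFourMult.CheckOther
import Cfsg.Agent.JankoFourMult.CheckProd
import Cfsg.Agent.JankoFourRep.Rep

/-!
The identities of the presented fourth Janko group used for its multiplier, given that the
representation of degree 112 is faithful.
-/

set_option autoImplicit false

namespace CfsgLib.JankoFourMult

open CfsgLib.JankoFourRep CfsgLib.JankoFour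

variable {G H : Type*} [Group G] [Group H]

/-- The values of the first extended letters. -/
def mg1 (X Y T : G) : ℕ → G
  | 4 => ev (gl X Y T) mWord4
  | 5 => ev (gl X Y T) mWord4 ^ 3
  | 6 => ev (gl X Y T) mWord6
  | 7 => ev (gl X Y T) mWord7
  | 8 => (ev (gl X Y T) mWord7)⁻¹
  | c => gl X Y T c

/-- The values of all extended letters. -/
def mg (X Y T : G) : ℕ → G
  | 9 => ev (mg1 X Y T) dWord9
  | 10 => ev (mg1 X Y T) dWord10
  | 11 => ev (mg1 X Y T) dWord11
  | c => mg1 X Y T c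

theorem map_ev' (φ : G →* H) {f : ℕ → G} {f' : ℕ → H} (h : ∀ c, φ (f c) = f' c) (w : List ℕ) :
    φ (ev f w) = ev f' w := by
  induction w with
  | nil => simp [ev_nil]
  | cons c w ih => rw [ev_cons, ev_cons, map_mul, ih, h]

theorem map_gl (φ : G →* H) (X Y T : G) (c : ℕ) : φ (gl X Y T c) = gl (φ X) (φ Y) (φ T) c := by
  match c with
  | 0 => rfl
  | 1 => rfl
  | 2 => exact map_inv φ Y
  | n + 3 => rfl

theorem map_mg1 (φ : G →* H) (X Y T : G) (c : ℕ) : φ (mg1 X Y T c) = mg1 (φ X) (φ Y) (φ T) c := by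
  match c with
  | 4 | 6 | 7 => exact map_ev' φ (map_gl φ X Y T) _
  | 5 => simp only [mg1, map_pow, map_ev' φ (map_gl φ X Y T)]
  | 8 => simp only [mg1, map_inv, map_ev' φ (map_gl φ X Y T)]
  | 0 => exact map_gl φ X Y T 0
  | 1 => exact map_gl φ X Y T 1
  | 2 => exact map_gl φ X Y T 2
  | 3 => exact map_gl φ X Y T 3
  | n + 9 => exact map_gl φ X Y T (n + 9)

theorem map_mg (φ : G →* H) (X Y T : G) (c : ℕ) : φ (mg X Y T c) = mg (φ X) (φ Y) (φ T) c := by
  match c with
  | 9 | 10 | 11 => exact map_ev' φ (map_mg1 φ X Y T) _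
  | 0 => exact map_mg1 φ X Y T 0
  | 1 => exact map_mg1 φ X Y T 1
  | 2 => exact map_mg1 φ X Y T 2
  | 3 => exact map_mg1 φ X Y T 3
  | 4 => exact map_mg1 φ X Y T 4
  | 5 => exact map_mg1 φ X Y T 5
  | 6 => exact map_mg1 φ X Y T 6
  | 7 => exact map_mg1 φ X Y T 7
  | 8 => exact map_mg1 φ X Y T 8
  | n + 12 => exact map_mg1 φ X Y T (n + 12)

/-- The values in the presented group of the extended letters. -/
noncomputable abbrev mJ : ℕ → Cfsg.Spor.J4 := mg xJ yJ tJ

/-- The matrix of an element. -/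
noncomputable def mat (g : Cfsg.Spor.J4) : Mat := (rep g).val

theorem mat_mul (g h : Cfsg.Spor.J4) : mat (g * h) = mat g * mat h := by simp [mat]

theorem mat_one : mat 1 = 1 := by simp [mat]

theorem mat_ev (f : ℕ → Cfsg.Spor.J4) (R : ℕ → List ℕ) :
    ∀ w : List ℕ, (∀ c ∈ w, mat (f c) = toMat (R c)) →
      mat (ev f w) = (w.map fun c => toMat (R c)).prod
  | [], _ => mat_one
  | c :: w, h => by
    rw [ev_cons, mat_mul, h c List.mem_cons_self,
      mat_ev f R w fun d hd => h d (List.mem_cons_of_mem _ hd), List.map_cons, List.prod_cons]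

theorem mat_gl (c : ℕ) : mat (gl xJ yJ tJ c) = toMat (rowsOf c) := by
  match c with
  | 0 => exact congrArg Units.val (rep_of Cfsg.Spor.J4.Gen.x)
  | 1 => exact congrArg Units.val (rep_of Cfsg.Spor.J4.Gen.y)
  | 2 =>
    change (rep (PresentedGroup.of Cfsg.Spor.J4.Gen.y)⁻¹).val = _
    rw [map_inv, rep_of]
    rfl
  | n + 3 => exact congrArg Units.val (rep_of Cfsg.Spor.J4.Gen.t)

theorem mat_of_isMat_base {w P : List ℕ} (h : isMatP rowsOf w P = true) :
    mat (ev (gl xJ yJ tJ) w) = toMat P := by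
  rw [mat_ev _ _ w fun c _ => mat_gl c, prod_eq_of_isMatP h]

theorem mat_of_isMat {f : ℕ → Cfsg.Spor.J4} {w P : List ℕ}
    (hf : ∀ c ∈ w, mat (f c) = toMat (mRows c)) (h : isMatP mRows w P = true) :
    mat (ev f w) = toMat P := by
  rw [mat_ev f _ w hf, prod_eq_of_isMatP h]

theorem mat_mg1_four : mat (mg1 xJ yJ tJ 4) = toMat mRows4 := mat_of_isMat_base m4_ok

theorem mat_mg1_five : mat (mg1 xJ yJ tJ 5) = toMat mRows5 := by
  have h := mat_of_isMat (f := mg1 xJ yJ tJ) (w := [4, 4, 4]) (P := mRows5) (fun c hc => by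
    simp only [List.mem_cons, List.not_mem_nil, or_false, or_self] at hc
    subst hc
    exact mat_mg1_four) m5_ok
  rw [← h]
  simp [ev, mg1, pow_succ, mul_assoc]

theorem toMat_seven_eight : toMat mRows7 * toMat mRows8 = 1 := by
  simpa [mRows] using prod_eq_one_of_isOneP m78_ok

theorem mat_mg1 (c : ℕ) (h : c < 9) : mat (mg1 xJ yJ tJ c) = toMat (mRows c) := by
  match c with
  | 0 => exact mat_gl 0
  | 1 => exact mat_gl 1
  | 2 => exact mat_gl 2
  | 3 => exact mat_gl 3
  | 4 => exact mat_mg1_four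
  | 5 => exact mat_mg1_five
  | 6 => exact mat_of_isMat_base m6_ok
  | 7 => exact mat_of_isMat_base m7_ok
  | 8 =>
    have h7 : mat (mg1 xJ yJ tJ 7) = toMat mRows7 := mat_of_isMat_base m7_ok
    have h8 : mat (mg1 xJ yJ tJ 8) * mat (mg1 xJ yJ tJ 7) = 1 := by
      rw [← mat_mul, show mg1 xJ yJ tJ 8 * mg1 xJ yJ tJ 7 = 1 by simp [mg1], mat_one]
    rw [h7] at h8
    change mat (mg1 xJ yJ tJ 8) = toMat mRows8
    rw [← mul_one (mat (mg1 xJ yJ tJ 8)), ← toMat_seven_eight, ← mul_assoc, h8, one_mul]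
  | n + 9 => omega

theorem mat_mJ (c : ℕ) (h : c < 12) : mat (mJ c) = toMat (mRows c) := by
  match c with
  | 9 => exact mat_of_isMat (fun c hc => mat_mg1 c ((by decide : ∀ d ∈ dWord9, d < 9) c hc)) m9_ok
  | 10 => exact mat_of_isMat (fun c hc => mat_mg1 c ((by decide : ∀ d ∈ dWord10, d < 9) c hc)) m10_ok
  | 11 => exact mat_of_isMat (fun c hc => mat_mg1 c ((by decide : ∀ d ∈ dWord11, d < 9) c hc)) m11_ok
  | 0 => exact mat_mg1 0 (by omega)
  | 1 => exact mat_mg1 1 (by omega)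
  | 2 => exact mat_mg1 2 (by omega)
  | 3 => exact mat_mg1 3 (by omega)
  | 4 => exact mat_mg1 4 (by omega)
  | 5 => exact mat_mg1 5 (by omega)
  | 6 => exact mat_mg1 6 (by omega)
  | 7 => exact mat_mg1 7 (by omega)
  | 8 => exact mat_mg1 8 (by omega)
  | n + 12 => omega

theorem mat_mJ_word {w P : List ℕ} (hw : ∀ c ∈ w, c < 12) (h : isMatP mRows w P = true) :
    mat (ev mJ w) = toMat P :=
  mat_of_isMat (fun c hc => mat_mJ c (hw c hc)) h

/-- The identities used. -/
structure Facts : Prop where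
  sqT : ev (gl xJ yJ tJ) aT * ev (gl xJ yJ tJ) aT = 1
  sqTX : ev (gl xJ yJ tJ) aTX * ev (gl xJ yJ tJ) aTX = 1
  sqU : ev (gl xJ yJ tJ) aU * ev (gl xJ yJ tJ) aU = 1
  conjT : ev mJ wT * ev mJ hT = ev mJ hT * ev mJ aT
  conjTX : ev mJ wTX * ev mJ hTX = ev mJ hTX * ev mJ aTX
  conjU : ev mJ wU * ev mJ hU = ev mJ hU * ev mJ aU
  v4 : mJ 4 * mJ 5 = 1
  prodV : ev mJ prodV = mJ 4
  prodA : ev mJ prodA = mJ 6
  a4 : ev mJ [6, 6, 6, 6] = 1

/-- The identities hold as soon as the representation is faithful. -/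
theorem facts (hinj : Function.Injective rep) : Facts := by
  have key : ∀ {g h : Cfsg.Spor.J4}, mat g = mat h → g = h := fun e => hinj (Units.ext e)
  have sq : ∀ a : List ℕ, isOneP rowsOf (a ++ a) = true →
      ev (gl xJ yJ tJ) a * ev (gl xJ yJ tJ) a = 1 := fun a h => key (by
    rw [← ev_append, mat_one, mat_ev _ _ _ fun c _ => mat_gl c, prod_eq_one_of_isOneP h])
  have both : ∀ {l l' r r' P : List ℕ}, (∀ c ∈ l ++ l', c < 12) → (∀ c ∈ r ++ r', c < 12) →
      isMatP mRows (l ++ l') P = true → isMatP mRows (r ++ r') P = true →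
      ev mJ l * ev mJ l' = ev mJ r * ev mJ r' := fun hl hr h1 h2 => key (by
    rw [← ev_append, ← ev_append, mat_mJ_word hl h1, mat_mJ_word hr h2])
  exact
    { sqT := sq aT sqT_ok
      sqTX := sq aTX sqTX_ok
      sqU := sq aU sqU_ok
      conjT := both (by decide) (by decide) leftT_ok rightT_ok
      conjTX := both (by decide) (by decide) leftTX_ok rightTX_ok
      conjU := both (by decide) (by decide) leftU_ok rightU_ok
      v4 := key (by
        rw [mat_mul, mat_one, mat_mJ 4 (by omega), mat_mJ 5 (by omega)]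
        simpa using prod_eq_one_of_isOneP m45_ok)
      prodV := key (by rw [mat_mJ_word (by decide) prodV_ok, mat_mJ 4 (by omega)]; rfl)
      prodA := key (by rw [mat_mJ_word (by decide) prodA_ok, mat_mJ 6 (by omega)]; rfl)
      a4 := key (by
        rw [mat_one, mat_ev mJ mRows _ fun c hc => mat_mJ c ((by decide : ∀ d ∈ [6, 6, 6, 6], d < 12) c hc),
          prod_eq_one_of_isOneP m6four_ok]) }

end CfsgLib.JankoFourMult
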