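import Cfsg.Agent.JankoFour.Basic
import Mathlib.Tactic.Group

/-!
Words in three letters: `0` for `x`, `1` for `y`, `2` for the inverse of `y` and `3` for `t`.
-/

set_option autoImplicit false

namespace CfsgLib.JankoFourMult

variable {G H : Type*} [Group G] [Group H]

/-- The value of a letter. -/
def gl (X Y T : G) : ℕ → G
  | 0 => X
  | 1 => Y
  | 2 => Y⁻¹
  | _ => T

/-- The inverse letter. -/
def invL : ℕ → ℕ
  | 1 => 2
  | 2 => 1
  | c => c

/-- The inverse word. -/
def invW (w : List ℕ) : List ℕ := (w.map invL).reverse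

/-- The value of a word. -/
def ev (f : ℕ → G) (w : List ℕ) : G := (w.map f).prod

theorem ev_append (f : ℕ → G) (a b : List ℕ) : ev f (a ++ b) = ev f a * ev f b := by
  simp [ev, List.map_append, List.prod_append]

theorem ev_nil (f : ℕ → G) : ev f [] = 1 := rfl

theorem ev_cons (f : ℕ → G) (c : ℕ) (w : List ℕ) : ev f (c :: w) = f c * ev f w := by
  simp [ev]

theorem gl_invL {X Y T : G} (hX : X * X = 1) (hT : T * T = 1) (c : ℕ) :
    gl X Y T (invL c) = (gl X Y T c)⁻¹ := by
  match c with
  | 0 => simpa [invL, gl] using (inv_eq_of_mul_eq_one_right hX).symm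
  | 1 => simp [invL, gl]
  | 2 => simp [invL, gl]
  | n + 3 => simpa [invL, gl] using (inv_eq_of_mul_eq_one_right hT).symm

theorem ev_invW {X Y T : G} (hX : X * X = 1) (hT : T * T = 1) (w : List ℕ) :
    ev (gl X Y T) (invW w) = (ev (gl X Y T) w)⁻¹ := by
  induction w with
  | nil => simp [invW, ev_nil]
  | cons c w ih =>
    rw [show invW (c :: w) = invW w ++ [invL c] by simp [invW], ev_append, ih, ev_cons, ev_cons, ev_nil,
      gl_invL hX hT, mul_one, mul_inv_rev]

theorem ev_replicate (f : ℕ → G) (w : List ℕ) (n : ℕ) :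
    ev f (List.replicate n w).flatten = ev f w ^ n := by
  induction n with
  | zero => simp [ev]
  | succ n ih => rw [List.replicate_succ, List.flatten_cons, ev_append, ih, pow_succ']

theorem ev_flatMap {α : Type*} (f : ℕ → G) (g : α → List ℕ) (L : List α) :
    ev f (L.flatMap g) = (L.map fun a => ev f (g a)).prod := by
  induction L with
  | nil => simp [ev]
  | cons a L ih => rw [List.flatMap_cons, ev_append, ih, List.map_cons, List.prod_cons]

theorem map_ev (φ : G →* H) (X Y T : G) (w : List ℕ) :
    φ (ev (gl X Y T) w) = ev (gl (φ X) (φ Y) (φ T)) w := by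
  induction w with
  | nil => simp [ev_nil]
  | cons c w ih =>
    rw [ev_cons, ev_cons, map_mul, ih]
    congr 1
    match c with
    | 0 => rfl
    | 1 => rfl
    | 2 => exact map_inv φ Y
    | n + 3 => rfl

/-- A word without the letter `3` has a value independent of the value of that letter. -/
theorem ev_congr_lt (X Y T T' : G) {w : List ℕ} (hw : w.all (Nat.blt · 3) = true) :
    ev (gl X Y T) w = ev (gl X Y T') w := by
  unfold ev
  refine congrArg List.prod (List.map_congr_left fun c hc => ?_)
  have h := List.all_eq_true.1 hw c hc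
  match c with
  | 0 => rfl
  | 1 => rfl
  | 2 => rfl
  | n + 3 => simp at h

/-- The element centralising `t` besides `x`. -/
def vW (x y : G) : G := y * x * y * ((x * y⁻¹) ^ 2) * ((x * y) ^ 3)

/-- The conjugating element of the relator of order three. -/
def w1W (x y : G) : G := y * x * y⁻¹ * x * y * x * y⁻¹ * x

/-- The conjugating element of the last relator. -/
def w2W (x y : G) : G := (x * y) ^ 3 * y * ((x * y) ^ 6) * y

/-- The factor from `⟨x, y⟩` in the last relator. -/
def aW (x y : G) : G := (y * x * y * x * y * x * y) ^ 3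

/-- The involution of the last relator. -/
def uW (x y t : G) : G := aW x y * t * ((w2W x y)⁻¹ * t * w2W x y)

theorem map_vW (φ : G →* H) (x y : G) : φ (vW x y) = vW (φ x) (φ y) := by simp [vW]

theorem map_w1W (φ : G →* H) (x y : G) : φ (w1W x y) = w1W (φ x) (φ y) := by simp [w1W]

theorem map_w2W (φ : G →* H) (x y : G) : φ (w2W x y) = w2W (φ x) (φ y) := by simp [w2W]

theorem map_aW (φ : G →* H) (x y : G) : φ (aW x y) = aW (φ x) (φ y) := by simp [aW]

theorem map_uW (φ : G →* H) (x y t : G) : φ (uW x y t) = uW (φ x) (φ y) (φ t) := by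
  simp [uW, map_aW, map_w2W]

end CfsgLib.JankoFourMult
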